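import Groth.Agent.S15775
import Groth.Agent.RegLoc.Completion
import Mathlib.RingTheory.Henselian
import Mathlib.RingTheory.DiscreteValuationRing.Basic

/-!
# Finite étale covers of the fraction field of a Henselian DVR and of its completion
-/

set_option autoImplicit false

universe u

open CategoryTheory AlgebraicGeometry IsLocalRing

namespace Groth.Agent.EtCd27

/-- In a discrete valuation ring, inverting a uniformizer gives the fraction field. -/
theorem isLocalization_away_of_irreducible {A : Type u} [CommRing A] [IsDomain A] [IsDiscreteValuationRing A]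
    (F : Type u) [Field F] [Algebra A F] [IsFractionRing A F] {t : A} (ht : Irreducible t) :
    IsLocalization.Away t F := by
  constructor
  constructor
  · rintro ⟨_, k, rfl⟩
    rw [map_pow]
    exact ((map_ne_zero_iff _ (IsFractionRing.injective A F)).2 ht.ne_zero).isUnit.pow k
  · intro z
    obtain ⟨a, b, hb, rfl⟩ := IsFractionRing.div_surjective (A := A) z
    have hb0 : b ≠ 0 := nonZeroDivisors.ne_zero hb
    obtain ⟨n, v, rfl⟩ := IsDiscreteValuationRing.eq_unit_mul_pow_irreducible hb0 ht
    refine ⟨⟨a * ↑v⁻¹, ⟨t ^ n, n, rfl⟩⟩, ?_⟩
    show algebraMap A F a / algebraMap A F (↑v * t ^ n) * algebraMap A F (t ^ n) = algebraMap A F (a * ↑v⁻¹)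
    have hne : algebraMap A F (↑v * t ^ n) ≠ 0 := (map_ne_zero_iff _ (IsFractionRing.injective A F)).2 hb0
    rw [div_mul_eq_mul_div, div_eq_iff hne, ← map_mul, ← map_mul]
    congr 1
    rw [mul_assoc, ← mul_assoc (↑v⁻¹ : A), Units.inv_mul, one_mul]
  · intro x y h
    exact ⟨1, by rw [IsFractionRing.injective A F h]⟩

/-- The `t`-adic form. -/
theorem isEquivalence_restrict_away {A L L' : Type u} [CommRing A] (t : A) (I : Ideal A) (hI : I = Ideal.span {t})
    [HenselianRing A I] [CommRing L] [Algebra A L] [IsLocalization.Away t L] [CommRing L']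
    [Algebra (AdicCompletion I A) L'] [IsLocalization.Away (algebraMap A (AdicCompletion I A) t) L']
    [Algebra A L'] [IsScalarTower A (AdicCompletion I A) L'] [Algebra L L'] [IsScalarTower A L L'] :
    (FEt.restrict (Spec.map (CommRingCat.ofHom (algebraMap L L')))).IsEquivalence := by
  subst hI
  have hI : (Ideal.span {t}).FG := Submodule.fg_span_singleton t
  have : HenselianRing (AdicCompletion (Ideal.span {t}) A)
      (Ideal.span {algebraMap A (AdicCompletion (Ideal.span {t}) A) t}) := by
    have := AdicCompletion.isAdicComplete_self (Ideal.span {t}) hI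
    have h : HenselianRing (AdicCompletion (Ideal.span {t}) A)
        ((Ideal.span {t}).map (algebraMap A (AdicCompletion (Ideal.span {t}) A))) :=
      IsAdicComplete.henselianRing _ _
    rwa [Ideal.map_span, Set.image_singleton] at h
  exact Groth.Agent.FEtCat.DenseAlg.isEquivalence
    (Ah := AdicCompletion (Ideal.span {t}) A) (L := L) (L' := L') (t := t)
    ⟨⟨fun k y => S15778.exists_approx t y k, fun k a z h => S15778.dvd_of_algebraMap_eq t h,
      S15778.isUnit_one_add_mul t⟩, inferInstance, inferInstance, inferInstance, inferInstance⟩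

/-- Finite étale covers of the fraction field of a Henselian DVR and of the completed one agree. -/
theorem isEquivalence_restrict_completion (R K Khat : Type u) [CommRing R] [IsDomain R]
    [IsDiscreteValuationRing R] [HenselianLocalRing R] [Field K] [Algebra R K] [IsFractionRing R K]
    [Field Khat] [Algebra (AdicCompletion (maximalIdeal R) R) Khat]
    [IsFractionRing (AdicCompletion (maximalIdeal R) R) Khat]
    [Algebra R Khat] [IsScalarTower R (AdicCompletion (maximalIdeal R) R) Khat]
    [Algebra K Khat] [IsScalarTower R K Khat] :
    (FEt.restrict (Spec.map (CommRingCat.ofHom (algebraMap K Khat)))).IsEquivalence := by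
  obtain ⟨t, ht⟩ := IsDiscreteValuationRing.exists_irreducible R
  have hm : maximalIdeal R = Ideal.span {t} := (IsDiscreteValuationRing.irreducible_iff_uniformizer t).1 ht
  obtain ⟨_, hdvr⟩ := (Groth.Agent.RegLoc.Completion.isDiscreteValuationRing_completion_iff (A := R)).1
    ⟨inferInstance, inferInstance⟩
  have hm' : maximalIdeal (AdicCompletion (maximalIdeal R) R) =
      Ideal.span {algebraMap R (AdicCompletion (maximalIdeal R) R) t} := by
    rw [AdicCompletion.maximalIdeal_eq_map (R := R)]
    conv_lhs => arg 2; rw [hm]
    rw [Ideal.map_span, Set.image_singleton]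
  have ht' := (IsDiscreteValuationRing.irreducible_iff_uniformizer _).2 hm'
  haveI := isLocalization_away_of_irreducible K ht
  haveI := isLocalization_away_of_irreducible Khat ht'
  haveI : HenselianRing R (maximalIdeal R) := inferInstance
  exact isEquivalence_restrict_away t (maximalIdeal R) hm

end Groth.Agent.EtCd27
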